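import Groth.Agent.RSStalk.Sky
import Mathlib.Algebra.Category.ModuleCat.ChangeOfRings
import Mathlib.RingTheory.Flat.Basic
import Mathlib.RingTheory.RingHom.Flat

/-!
Stalks of inverse images on ringed spaces; detecting monomorphisms and exactness on stalks.
-/

set_option backward.isDefEq.respectTransparency false
set_option backward.isDefEq.respectTransparency.types false
set_option linter.style.haveILetI false
set_option autoImplicit false
universe u

namespace Groth.Agent.RSStalk

open CategoryTheory Limits Opposite TopologicalSpace MonoidalCategory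
open Groth.Agent.KFlat (PStalk pgerm pgerm_res pgerm_smul exists_pgerm mem_inf' pDesc pDesc_germ)

variable {X : TopCat.{u}} {O : TopCat.Sheaf CommRingCat.{u} X}

/-- a module with zero stalks is zero -/
lemma isZero_of_stalks (M : ModSite.Mod O) (h : ∀ x : X, IsZero ((st O x).obj M)) : IsZero M := by
  rw [IsZero.iff_id_eq_zero]
  refine (SheafOfModules.toSheaf.{u} (ModSite.ringSh O)).map_injective ?_
  have hz : IsZero ((SheafOfModules.toSheaf.{u} (ModSite.ringSh O)).obj M) :=
    (TopCat.Sheaf.isZero_iff_stalkFunctor_obj_isZero _).2 fun x =>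
      (forget₂ (ModuleCat.{u} _) AddCommGrpCat.{u}).map_isZero (h x)
  exact hz.eq_of_src _ _

/-- monomorphisms are detected on stalks -/
lemma mono_of_stalks {M N : ModSite.Mod O} (φ : M ⟶ N) (h : ∀ x : X, Mono ((st O x).map φ)) : Mono φ := by
  refine Preadditive.mono_of_isZero_kernel _ (isZero_of_stalks _ fun x => ?_)
  have := h x
  exact (isZero_kernel_of_mono ((st O x).map φ)).of_iso (PreservesKernel.iso (st O x) φ)

/-- epimorphisms are detected on stalks -/
lemma epi_of_stalks {M N : ModSite.Mod O} (φ : M ⟶ N) (h : ∀ x : X, Epi ((st O x).map φ)) : Epi φ := by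
  refine Preadditive.epi_of_isZero_cokernel _ (isZero_of_stalks _ fun x => ?_)
  have := h x
  exact (isZero_cokernel_of_epi ((st O x).map φ)).of_iso (PreservesCokernel.iso (st O x) φ)

/-- isomorphisms are detected on stalks -/
lemma isIso_of_stalks {M N : ModSite.Mod O} (φ : M ⟶ N) (h : ∀ x : X, IsIso ((st O x).map φ)) : IsIso φ := by
  have := mono_of_stalks φ fun x => (have := h x; inferInstance)
  have := epi_of_stalks φ fun x => (have := h x; inferInstance)
  exact isIso_of_mono_of_epi φ

/-- exactness is detected on stalks -/
lemma exact_of_stalks (S : ShortComplex (ModSite.Mod O)) (h : ∀ x : X, (S.map (st O x)).Exact) : S.Exact := by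
  rw [S.exact_iff_isZero_homology]
  refine isZero_of_stalks _ fun x => ?_
  exact (((S.map (st O x)).exact_iff_isZero_homology).1 (h x)).of_iso (S.mapHomologyIso (st O x)).symm

section PullStalk

variable {Y : TopCat.{u}} {O_X : TopCat.Sheaf CommRingCat.{u} X} {O_Y : TopCat.Sheaf CommRingCat.{u} Y} (f : X ⟶ Y)
  (c : O_Y ⟶ ((Opens.map f).sheafPushforwardContinuous CommRingCat.{u} (Opens.grothendieckTopology Y)
    (Opens.grothendieckTopology X)).obj O_X) (x : X)

/-- the morphism of ringed spaces, as a morphism of sites -/
noncomputable abbrev rmor : ModSite.RMor O_X O_Y := ModSite.RMor.ofFlat (Opens.map f) c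

/-- the map of stalks -/
noncomputable def smap : (rg O_Y).stalk (f x) ⟶ (rg O_X).stalk x :=
  (TopCat.Presheaf.stalkFunctor CommRingCat.{u} (f x)).map
      (show rg O_Y ⟶ (TopCat.Presheaf.pushforward CommRingCat.{u} f).obj (rg O_X) from c.hom) ≫
    TopCat.Presheaf.stalkPushforward CommRingCat.{u} f (rg O_X) x

lemma germ_smap (U : Opens Y) (h : f x ∈ U) (r : (rg O_Y).obj (op U)) :
    (smap f c x).hom ((rg O_Y).germ U (f x) h r) =
      (rg O_X).germ ((Opens.map f).obj U) x h ((c.hom.app (op U)).hom r) := by
  change (TopCat.Presheaf.stalkPushforward CommRingCat.{u} f (rg O_X) x).hom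
    (((TopCat.Presheaf.stalkFunctor CommRingCat.{u} (f x)).map _).hom ((rg O_Y).germ U (f x) h r)) = _
  erw [TopCat.Presheaf.stalkFunctor_map_germ_apply]
  exact TopCat.Presheaf.stalkPushforward_germ_apply CommRingCat.{u} f (rg O_X) U x h _

/-- sections of pushforwards of skyscrapers -/
noncomputable def skyPushIso (M : ModuleCat.{u} ((rg O_X).stalk x)) :
    (sky (O := O_Y) (f x)).obj ((ModuleCat.restrictScalars (smap f c x).hom).obj M) ≅
      (rmor f c).push.obj ((sky x).obj M) :=
  (SheafOfModules.fullyFaithfulForget _).preimageIso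
    { hom := PresheafOfModules.homMk
        { app := fun U => AddCommGrpCat.ofHom
            { toFun := fun g h => g ⟨h.down⟩, map_zero' := rfl, map_add' := fun _ _ => rfl }
          naturality := fun _ _ _ => rfl }
        fun U r g => funext fun h => congrArg (· • (show M from g ⟨h.down⟩)) (germ_smap f c x U.unop h.down r)
      inv := PresheafOfModules.homMk
        { app := fun U => AddCommGrpCat.ofHom
            { toFun := fun g h => g ⟨h.down⟩, map_zero' := rfl, map_add' := fun _ _ => rfl }
          naturality := fun _ _ _ => rfl }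
        fun U r g => funext fun h => (congrArg (· • (show M from g ⟨h.down⟩)) (germ_smap f c x U.unop h.down r)).symm
      hom_inv_id := by
        apply PresheafOfModules.hom_ext
        intro U
        rfl
      inv_hom_id := by
        apply PresheafOfModules.hom_ext
        intro U
        rfl }

/-- pushforward of skyscrapers, natural -/
noncomputable def skyPushNatIso :
    ModuleCat.restrictScalars (smap f c x).hom ⋙ sky (O := O_Y) (f x) ≅ sky x ⋙ (rmor f c).push :=
  NatIso.ofComponents (skyPushIso f c x) fun g => by
    apply SheafOfModules.hom_ext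
    apply PresheafOfModules.hom_ext
    intro U
    rfl

/-- stalks of inverse images -/
noncomputable def pullStalkIso :
    (rmor f c).pull ⋙ st O_X x ≅ st O_Y (f x) ⋙ ModuleCat.extendScalars.{u, u, u} (smap f c x).hom :=
  Adjunction.leftAdjointUniq
    (((rmor f c).adj.comp (skyAdjunction x)).ofNatIsoRight (skyPushNatIso f c x).symm)
    ((skyAdjunction (f x)).comp (ModuleCat.extendRestrictScalarsAdj (smap f c x).hom))

end PullStalk

/-- extension of scalars along a flat ring map preserves monomorphisms -/
lemma mono_extendScalars_map {A B : CommRingCat.{u}} (φ : A ⟶ B) (hφ : φ.hom.Flat) {M N : ModuleCat.{u} A}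
    (g : M ⟶ N) [Mono g] : Mono ((ModuleCat.extendScalars.{u, u, u} φ.hom).map g) := by
  letI := φ.hom.toAlgebra
  haveI : Module.Flat A B := hφ
  rw [ModuleCat.mono_iff_injective]
  exact Module.Flat.lTensor_preserves_injective_linearMap g.hom ((ModuleCat.mono_iff_injective g).1 inferInstance)

/-- an additive right exact functor keeping monomorphisms is exact -/
lemma preservesFiniteLimits_of_mono {A B : Type*} [Category* A] [Abelian A] [Category* B] [Abelian B] (F : A ⥤ B)
    [F.Additive] [PreservesFiniteColimits F] (h : ∀ {M N : A} (φ : M ⟶ N) [Mono φ], Mono (F.map φ)) :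
    PreservesFiniteLimits F := by
  haveI : F.PreservesMonomorphisms := ⟨fun φ _ => h φ⟩
  haveI := Functor.preservesHomology_of_preservesMonos_and_cokernels F
  exact Functor.preservesFiniteLimits_of_preservesHomology F

end Groth.Agent.RSStalk
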