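import Groth.Agent.KFlat.StalkTensor
import Groth.Prelude.Def_ModSite
import Mathlib.Topology.Sheaves.Abelian
import Mathlib.Topology.Sheaves.Sheafify

/-!
Stalks of modules on a ringed space `(X, O)`: exactness, sheafification, tensor products.
(The argument for schemes in `Groth.Agent.KFlat.SchemeStalk`, restated for ringed spaces.)
-/

set_option backward.isDefEq.respectTransparency false
set_option backward.isDefEq.respectTransparency.types false
set_option linter.style.haveILetI false
set_option autoImplicit false
universe u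

namespace Groth.Agent.RSStalk

open CategoryTheory Limits Opposite TopologicalSpace MonoidalCategory TensorProduct
open Groth.Agent.KFlat (PStalk pgerm pgerm_res pgerm_smul exists_pgerm mem_inf' PT ptmul)

variable {X : TopCat.{u}} (O : TopCat.Sheaf CommRingCat.{u} X)

/-- presheaves of modules -/
abbrev PM : Type (u + 1) := PresheafOfModules.{u} (O.obj ⋙ forget₂ CommRingCat.{u} RingCat.{u})

/-- the forgetful functor -/
noncomputable abbrev toP : ModSite.Mod O ⥤ PM O := SheafOfModules.forget (ModSite.ringSh O)

/-- sheafification -/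
noncomputable abbrev shP : PM O ⥤ ModSite.Mod O := ModSite.sheafify O

/-- the structure presheaf -/
abbrev rg : X.Presheaf CommRingCat.{u} := O.obj

variable {O}

instance toSheaf_preservesColimitsOfShape (K : Type u) [SmallCategory K] :
    PreservesColimitsOfShape K (SheafOfModules.toSheaf.{u} (ModSite.ringSh O)) where
  preservesColimit {F} := by
    let R := (ModSite.ringSh O)
    let adj := PresheafOfModules.sheafificationAdjunction (R := R) (𝟙 R.obj)
    have : IsIso adj.counit := inferInstance
    let G := F ⋙ SheafOfModules.forget R ⋙ PresheafOfModules.restrictScalars (𝟙 R.obj)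
    let e : G ⋙ PresheafOfModules.sheafification (R := R) (𝟙 R.obj) ≅ F :=
      Functor.isoWhiskerLeft F (asIso adj.counit)
    have : PreservesColimitsOfShape K
        (PresheafOfModules.sheafification (R := R) (𝟙 R.obj) ⋙ SheafOfModules.toSheaf R) :=
      preservesColimitsOfShape_of_natIso
        (PresheafOfModules.sheafificationCompToSheaf (R := R) (𝟙 R.obj)).symm
    have : PreservesColimitsOfSize.{u, u} (PresheafOfModules.sheafification (R := R) (𝟙 R.obj)) := adj.leftAdjoint_preservesColimits
    have : PreservesColimit (G ⋙ PresheafOfModules.sheafification (R := R) (𝟙 R.obj))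
        (SheafOfModules.toSheaf.{u} R) := by
      refine preservesColimit_of_preserves_colimit_cocone
        (isColimitOfPreserves (PresheafOfModules.sheafification (R := R) (𝟙 R.obj))
          (colimit.isColimit G)) ?_
      exact isColimitOfPreserves
        (PresheafOfModules.sheafification (R := R) (𝟙 R.obj) ⋙ SheafOfModules.toSheaf R)
        (colimit.isColimit G)
    exact preservesColimit_of_iso_diagram _ e

instance toSheaf_preservesFiniteColimits :
    PreservesFiniteColimits (SheafOfModules.toSheaf.{u} (ModSite.ringSh O)) :=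
  have : PreservesColimitsOfSize.{u, u} (SheafOfModules.toSheaf.{u} (ModSite.ringSh O)) := ⟨fun {_} _ => inferInstance⟩
  have : PreservesColimitsOfSize.{0, 0} (SheafOfModules.toSheaf.{u} (ModSite.ringSh O)) :=
    preservesSmallestColimits_of_preservesColimits _
  inferInstance

noncomputable instance pstalkModule (P : PM O) (x : X) : Module ((rg O).stalk x) (PStalk P x) :=
  inferInstanceAs (Module ↑(TopCat.Presheaf.stalk O.obj x) (PStalk P x))

/-- stalk of tensor product, over the stalk of the structure presheaf -/
noncomputable def stEquiv (P N : PM O) (x : X) :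
    PStalk P x ⊗[(rg O).stalk x] PStalk N x ≃ₗ[(rg O).stalk x] PStalk (PT P N) x :=
  KFlat.stalkTensorEquiv P N x

lemma stEquiv_tmul (P N : PM O) {x : X} {W : Opens X} (hW : x ∈ W) (p : P.obj (op W)) (n : N.obj (op W)) :
    stEquiv P N x (pgerm P x W hW p ⊗ₜ pgerm N x W hW n) = pgerm (PT P N) x W hW (ptmul P N p n) :=
  KFlat.toStalkTensor_tmul P N x hW p n

/-- the map induced on stalks of presheaves of modules -/
noncomputable def pstMap {P Q : PM O} (f : P ⟶ Q) (x : X) :
    PStalk P x →ₗ[(rg O).stalk x] PStalk Q x where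
  toFun := ((TopCat.Presheaf.stalkFunctor AddCommGrpCat.{u} x).map ((PresheafOfModules.toPresheaf _).map f)).hom
  map_add' := map_add _
  map_smul' r m := by
    obtain ⟨U, hU, r, rfl⟩ := TopCat.Presheaf.exists_germ_eq O.obj (x := x) r
    obtain ⟨V, hV, m, rfl⟩ := exists_pgerm P x m
    have hx : x ∈ U ⊓ V := mem_inf' x hU hV
    rw [← pgerm_res P x (show U ⊓ V ≤ V from inf_le_right) hx,
      ← TopCat.Presheaf.germ_res_apply O.obj (homOfLE (show U ⊓ V ≤ U from inf_le_left)) x hx r]
    erw [← pgerm_smul P x hx, TopCat.Presheaf.stalkFunctor_map_germ_apply,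
      TopCat.Presheaf.stalkFunctor_map_germ_apply]
    refine Eq.trans ?_ (pgerm_smul Q x hx _ _)
    exact congrArg _ ((f.app (op (U ⊓ V))).hom.map_smul _ _)

lemma pstMap_germ {P Q : PM O} (f : P ⟶ Q) (x : X) {U : Opens X} (hU : x ∈ U)
    (s : P.obj (op U)) : pstMap f x (pgerm P x U hU s) = pgerm Q x U hU (f.app (op U) s) :=
  TopCat.Presheaf.stalkFunctor_map_germ_apply U x hU ((PresheafOfModules.toPresheaf _).map f) s

/-- stalks of presheaves of modules -/
noncomputable def pst (O : TopCat.Sheaf CommRingCat.{u} X) (x : X) : PM O ⥤ ModuleCat.{u} ((rg O).stalk x) where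
  obj P := ModuleCat.of _ (PStalk P x)
  map f := ModuleCat.ofHom (pstMap f x)
  map_id P := by
    ext m
    obtain ⟨U, hU, s, rfl⟩ := exists_pgerm P x m
    exact pstMap_germ _ x hU s
  map_comp f g := by
    ext m
    obtain ⟨U, hU, s, rfl⟩ := exists_pgerm _ x m
    change pstMap (f ≫ g) x _ = pstMap g x (pstMap f x _)
    rw [pstMap_germ, pstMap_germ, pstMap_germ]
    rfl

lemma stEquiv_natural {P P' N N' : PM O} (f : P ⟶ P') (g : N ⟶ N') (x : X)
    (z : PStalk P x ⊗[(rg O).stalk x] PStalk N x) :
    stEquiv P' N' x (TensorProduct.map (pstMap f x) (pstMap g x) z) =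
      pstMap (f ⊗ₘ g) x (stEquiv P N x z) := by
  induction z using TensorProduct.induction_on with
  | zero => simp only [map_zero]
  | tmul m n =>
    obtain ⟨U, hU, m, rfl⟩ := exists_pgerm P x m
    obtain ⟨V, hV, n, rfl⟩ := exists_pgerm N x n
    rw [← pgerm_res P x (show U ⊓ V ≤ U from inf_le_left) (mem_inf' x hU hV),
      ← pgerm_res N x (show U ⊓ V ≤ V from inf_le_right) (mem_inf' x hU hV),
      TensorProduct.map_tmul, pstMap_germ, pstMap_germ, stEquiv_tmul, stEquiv_tmul, pstMap_germ]
    rfl
  | add a b ha hb => simp only [map_add, ha, hb]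

/-- the stalk of a tensor product of presheaves of modules -/
noncomputable def pstTensorIso (P N : PM O) (x : X) :
    (pst O x).obj P ⊗ (pst O x).obj N ≅ (pst O x).obj (P ⊗ N) :=
  (stEquiv P N x).toModuleIso

lemma pstTensorIso_natural {P P' N N' : PM O} (f : P ⟶ P') (g : N ⟶ N') (x : X) :
    ((pst O x).map f ⊗ₘ (pst O x).map g) ≫ (pstTensorIso P' N' x).hom =
      (pstTensorIso P N x).hom ≫ (pst O x).map (f ⊗ₘ g) := by
  ext1
  exact LinearMap.ext fun z => stEquiv_natural f g x z

/-- the sheafification map is an isomorphism on stalks -/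
lemma isIso_pst_unit (P : PM O) (x : X) :
    IsIso ((pst O x).map ((PresheafOfModules.sheafificationAdjunction.{u} (R := (ModSite.ringSh O))
      (𝟙 (ModSite.ringSh O).obj)).unit.app P)) := by
  have h : IsIso ((TopCat.Presheaf.stalkFunctor AddCommGrpCat.{u} x).map
      (CategoryTheory.toSheafify (Opens.grothendieckTopology X) P.presheaf)) :=
    TopCat.Presheaf.stalkFunctor_map_unit_toSheafify_isIso x AddCommGrpCat.{u} P.presheaf
  exact @isIso_of_reflects_iso _ _ _ _ _ _ _ (forget₂ (ModuleCat.{u} _) AddCommGrpCat.{u}) h _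

/-- stalks of modules -/
noncomputable abbrev st (O : TopCat.Sheaf CommRingCat.{u} X) (x : X) : ModSite.Mod O ⥤ ModuleCat.{u} ((rg O).stalk x) :=
  toP O ⋙ pst O x

/-- the unit of sheafification of presheaves of modules -/
noncomputable def shUnit (P : PM O) : P ⟶ (toP O).obj ((shP O).obj P) :=
  (PresheafOfModules.sheafificationAdjunction.{u} (R := (ModSite.ringSh O))
    (𝟙 (ModSite.ringSh O).obj)).unit.app P

lemma shUnit_natural {P Q : PM O} (f : P ⟶ Q) :
    f ≫ shUnit Q = shUnit P ≫ (toP O).map ((shP O).map f) :=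
  (PresheafOfModules.sheafificationAdjunction.{u} (R := (ModSite.ringSh O))
    (𝟙 (ModSite.ringSh O).obj)).unit.naturality f

instance isIso_shUnit_stalk (P : PM O) (x : X) : IsIso ((pst O x).map (shUnit P)) :=
  isIso_pst_unit P x

/-- the stalk of a sheafification -/
noncomputable def stalkShIso (x : X) : pst O x ≅ shP O ⋙ st O x :=
  NatIso.ofComponents (fun P => asIso ((pst O x).map (shUnit P))) fun {P Q} f => by
    simp only [asIso_hom, Functor.comp_map]
    rw [← Functor.map_comp, shUnit_natural f, Functor.map_comp]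

/-- the stalk of a tensor product of modules -/
noncomputable def stTensorIso (F G : ModSite.Mod O) (x : X) :
    (st O x).obj F ⊗ (st O x).obj G ≅ (st O x).obj (((ModSite.tensorBi O).obj F).obj G) :=
  pstTensorIso ((toP O).obj F) ((toP O).obj G) x ≪≫ (stalkShIso x).app ((toP O).obj F ⊗ (toP O).obj G)

lemma stTensorIso_natural {F F' G G' : ModSite.Mod O} (f : F ⟶ F') (g : G ⟶ G') (x : X) :
    ((st O x).map f ⊗ₘ (st O x).map g) ≫ (stTensorIso F' G' x).hom =
      (stTensorIso F G x).hom ≫
        (st O x).map (((ModSite.tensorBi O).map f).app G ≫ ((ModSite.tensorBi O).obj F').map g) := by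
  have h1 := pstTensorIso_natural ((toP O).map f) ((toP O).map g) x
  have h2 := (stalkShIso x).hom.naturality ((toP O).map f ⊗ₘ (toP O).map g)
  simp only [Functor.comp_map] at h2
  have h3 : ((ModSite.tensorBi O).map f).app G ≫ ((ModSite.tensorBi O).obj F').map g =
      (shP O).map ((toP O).map f ⊗ₘ (toP O).map g) :=
    ((shP O).map_comp _ _).symm.trans (congrArg _ (MonoidalCategory.tensorHom_def _ _).symm)
  rw [h3]
  simp only [stTensorIso, Iso.trans_hom, Iso.app_hom, Category.assoc]
  exact ((reassoc_of% h1) _).trans (congrArg (_ ≫ ·) h2)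

/-- the stalk of the underlying abelian sheaf -/
noncomputable def abStalk (O : TopCat.Sheaf CommRingCat.{u} X) (x : X) : ModSite.Mod O ⥤ AddCommGrpCat.{u} :=
  SheafOfModules.toSheaf.{u} (ModSite.ringSh O) ⋙ TopCat.Sheaf.forget AddCommGrpCat.{u} X ⋙
    TopCat.Presheaf.stalkFunctor AddCommGrpCat.{u} x

/-- the stalk as modules, forgotten to abelian groups -/
noncomputable def stalkForgetIso (x : X) :
    st O x ⋙ forget₂ (ModuleCat.{u} _) AddCommGrpCat.{u} ≅ abStalk O x :=
  NatIso.ofComponents (fun M => Iso.refl _) (fun f => by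
    simp only [Iso.refl_hom]; rfl)

lemma abStalk_preservesColimits (x : X) : PreservesColimitsOfSize.{u, u} (abStalk O x) := by
  have h1 : PreservesColimitsOfSize.{u, u} (SheafOfModules.toSheaf.{u} (ModSite.ringSh O)) := ⟨fun {_} _ => inferInstance⟩
  have h2 : PreservesColimitsOfSize.{u, u}
      (TopCat.Sheaf.forget AddCommGrpCat.{u} X ⋙ TopCat.Presheaf.stalkFunctor AddCommGrpCat.{u} x) :=
    inferInstance
  exact @comp_preservesColimits _ _ _ _ _ _ (SheafOfModules.toSheaf.{u} (ModSite.ringSh O)) _ h1 h2

lemma abStalk_preservesFiniteLimits (x : X) : PreservesFiniteLimits (abStalk O x) :=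
  have h2 : PreservesFiniteLimits
      (TopCat.Sheaf.forget AddCommGrpCat.{u} X ⋙ TopCat.Presheaf.stalkFunctor AddCommGrpCat.{u} x) :=
    inferInstance
  @comp_preservesFiniteLimits _ _ _ _ _ _ (SheafOfModules.toSheaf.{u} (ModSite.ringSh O)) _ inferInstance h2

instance stalk_preservesColimits (x : X) :
    PreservesColimitsOfSize.{u, u} (st O x) :=
  ⟨fun {K} _ => by
    have := abStalk_preservesColimits (O := O) x
    have : PreservesColimitsOfShape K (st O x ⋙ forget₂ (ModuleCat.{u} _) AddCommGrpCat) :=
      preservesColimitsOfShape_of_natIso (stalkForgetIso (O := O) x).symm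
    exact preservesColimitsOfShape_of_reflects_of_preserves (st O x)
      (forget₂ (ModuleCat.{u} _) AddCommGrpCat)⟩

instance stalk_preservesFiniteColimits (x : X) : PreservesFiniteColimits (st O x) :=
  have : PreservesColimitsOfSize.{0, 0} (st O x) :=
    preservesSmallestColimits_of_preservesColimits _
  inferInstance

instance stalk_preservesFiniteLimits (x : X) : PreservesFiniteLimits (st O x) :=
  ⟨fun J _ _ => by
    have := abStalk_preservesFiniteLimits (O := O) x
    have : PreservesLimitsOfShape J (st O x ⋙ forget₂ (ModuleCat.{u} _) AddCommGrpCat) :=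
      preservesLimitsOfShape_of_natIso (stalkForgetIso (O := O) x).symm
    exact preservesLimitsOfShape_of_reflects_of_preserves (st O x)
      (forget₂ (ModuleCat.{u} _) AddCommGrpCat)⟩


end Groth.Agent.RSStalk
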