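import Groth.Agent.RSStalk.Pull
import Groth.Agent.EtStalk.Pullback
import Groth.Prelude.Def_ModSite2
import Mathlib.Topology.Sheaves.Points
import Mathlib.RingTheory.Flat.Stability

/-!
Fibres at the point of the site of opens given by a point of the space, compared with stalks;
flatness of a module over the stalk of the inverse image sheaf of rings.
-/

set_option backward.isDefEq.respectTransparency false
set_option backward.isDefEq.respectTransparency.types false
set_option linter.style.haveILetI false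
set_option autoImplicit false
universe u w

namespace Groth.Agent.RSStalk

open CategoryTheory Limits Opposite TopologicalSpace MonoidalCategory
open Groth.Agent.KFlat (PStalk pgerm pgerm_res pgerm_smul exists_pgerm mem_inf')

section General

variable {X : TopCat.{u}} {A : Type (u + 1)} [Category.{u} A] [HasColimitsOfSize.{u, u} A]

/-- the point of the site of opens -/
noncomputable abbrev pt (x : X) : GrothendieckTopology.Point.{u} (Opens.grothendieckTopology X) :=
  Opens.pointGrothendieckTopology x

/-- fibre to stalk -/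
noncomputable def fibHom (P : TopCat.Presheaf A X) (x : X) :
    (pt x).presheafFiber.obj P ⟶ P.stalk x :=
  (pt x).presheafFiberDesc (fun U h => P.germ U x h.down.down) fun _ _ g h =>
    TopCat.Presheaf.germ_res P g x h.down.down

lemma toFiber_fibHom (P : TopCat.Presheaf A X) (x : X) (U : Opens X) (h : (pt x).fiber.obj U) :
    (pt x).toPresheafFiber U h P ≫ fibHom P x = P.germ U x h.down.down :=
  (pt x).toPresheafFiber_presheafFiberDesc _ _ U h

/-- stalk to fibre -/
noncomputable def fibInv (P : TopCat.Presheaf A X) (x : X) :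
    P.stalk x ⟶ (pt x).presheafFiber.obj P :=
  colimit.desc _ (Cocone.mk ((pt x).presheafFiber.obj P)
    { app := fun V => (pt x).toPresheafFiber V.unop.1 ⟨⟨V.unop.2⟩⟩ P
      naturality := fun V W g => by
        refine Eq.trans ?_ (Category.comp_id _).symm
        exact (pt x).toPresheafFiber_w ((OpenNhds.inclusion x).map g.unop) ⟨⟨W.unop.2⟩⟩ P })

lemma germ_fibInv (P : TopCat.Presheaf A X) (x : X) (U : Opens X) (h : x ∈ U) :
    P.germ U x h ≫ fibInv P x = (pt x).toPresheafFiber U ⟨⟨h⟩⟩ P :=
  colimit.ι_desc _ (op (⟨U, h⟩ : OpenNhds x))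

/-- the fibre at the point of the site of opens is the stalk -/
noncomputable def fibIso (P : TopCat.Presheaf A X) (x : X) :
    (pt x).presheafFiber.obj P ≅ P.stalk x where
  hom := fibHom P x
  inv := fibInv P x
  hom_inv_id := by
    refine (pt x).presheafFiber_hom_ext fun U h => ?_
    rw [← Category.assoc, toFiber_fibHom, germ_fibInv, Category.comp_id]
    rfl
  inv_hom_id := by
    refine TopCat.Presheaf.stalk_hom_ext P fun U h => ?_
    rw [← Category.assoc, germ_fibInv, toFiber_fibHom, Category.comp_id]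

end General

section PullFiber

variable {X Y : TopCat.{u}} {O_X : TopCat.Sheaf CommRingCat.{u} X} {O_Y : TopCat.Sheaf CommRingCat.{u} Y} (f : X ⟶ Y)
  (c : O_Y ⟶ ((Opens.map f).sheafPushforwardContinuous CommRingCat.{u} (Opens.grothendieckTopology Y)
    (Opens.grothendieckTopology X)).obj O_X) (x : X)

lemma skyHom_π {Z : TopCat.{u}} (z : Z) {G : Sheaf (Opens.grothendieckTopology Z) CommRingCat.{u}} {M : CommRingCat.{u}}
    (φ : (pt z).sheafFiber.obj G ⟶ M) (U : Opens Z) (h : (pt z).fiber.obj U) :
    (((pt z).skyscraperSheafAdjunction (A := CommRingCat.{u})).homEquiv G M φ).hom.app (op U) ≫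
      Pi.π (fun _ : (pt z).fiber.obj U => M) h = (pt z).toPresheafFiber U h G.obj ≫ φ := by
  rw [GrothendieckTopology.Point.skyscraperSheafAdjunction, Adjunction.mkOfHomEquiv_homEquiv]
  exact (pt z).skyscraperPresheafHomEquiv_app_π φ U h

/-- points pull back to points -/
noncomputable def ptPullIso : Opens.map f ⋙ (pt x).fiber ≅ (pt (f x)).fiber :=
  Iso.refl _

/-- the fibre of the inverse image sheaf of rings -/
noncomputable def invFib :
    (pt (f x)).sheafFiber.obj O_Y ≅ (pt x).sheafFiber.obj (rmor f c).invRing :=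
  (EtStalk.sheafFiberPullbackIso (Opens.map f) (pt (f x)) (pt x) (ptPullIso f x) CommRingCat.{u}).app O_Y

lemma toFiber_invFib_invSharp (U : Opens Y) (h : f x ∈ U) :
    (pt (f x)).toPresheafFiber U ⟨⟨h⟩⟩ O_Y.obj ≫ (invFib f c x).hom ≫ (pt x).sheafFiber.map (rmor f c).invSharp =
      c.hom.app (op U) ≫ (pt x).toPresheafFiber ((Opens.map f).obj U) ⟨⟨h⟩⟩ O_X.obj := by
  let adj := ((Opens.map f).sheafAdjunctionContinuous CommRingCat.{u} (Opens.grothendieckTopology Y)
    (Opens.grothendieckTopology X))
  let β := EtStalk.skyscraperPushIso (Opens.map f) (pt (f x)) (pt x) (ptPullIso f x) CommRingCat.{u}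
  let adj1 := adj.comp ((pt x).skyscraperSheafAdjunction (A := CommRingCat.{u}))
  let adj2 := (pt (f x)).skyscraperSheafAdjunction (A := CommRingCat.{u})
  let g : (pt x).sheafFiber.obj (rmor f c).invRing ⟶ (pt x).sheafFiber.obj O_X :=
    (pt x).sheafFiber.map (rmor f c).invSharp
  have h1 : adj1.unit.app O_Y ≫ β.hom.app _ =
      adj2.unit.app O_Y ≫ (pt (f x)).skyscraperSheafFunctor.map (invFib f c x).hom :=
    unit_conjugateEquiv_symm adj1 adj2 β.hom O_Y
  have h2 : adj2.homEquiv O_Y _ ((invFib f c x).hom ≫ g) = adj1.homEquiv O_Y _ g ≫ β.hom.app _ := by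
    simp only [Adjunction.homEquiv_unit, Functor.map_comp]
    rw [← reassoc_of% h1]
    erw [← β.hom.naturality g]
    simp only [Category.assoc]
  have h3 : adj1.homEquiv O_Y _ g = c ≫ ((Opens.map f).sheafPushforwardContinuous CommRingCat.{u}
      (Opens.grothendieckTopology Y) (Opens.grothendieckTopology X)).map
        (((pt x).skyscraperSheafAdjunction (A := CommRingCat.{u})).unit.app O_X) := by
    simp only [adj1, Adjunction.comp_homEquiv, Equiv.trans_apply]
    have h4 : ((pt x).skyscraperSheafAdjunction (A := CommRingCat.{u})).homEquiv _ _ g =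
        (rmor f c).invSharp ≫ ((pt x).skyscraperSheafAdjunction (A := CommRingCat.{u})).unit.app O_X := by
      rw [Adjunction.homEquiv_unit]
      exact (((pt x).skyscraperSheafAdjunction (A := CommRingCat.{u})).unit.naturality _).symm
    refine (congrArg (adj.homEquiv _ _) h4).trans ((adj.homEquiv_naturality_right _ _).trans ?_)
    refine congrArg (· ≫ _) ?_
    exact (adj.homEquiv O_Y O_X).apply_symm_apply c
  have h5 := congrArg (fun φ => φ.hom.app (op U) ≫ Pi.π (fun _ : (pt (f x)).fiber.obj U => _) (⟨⟨h⟩⟩ : (pt (f x)).fiber.obj U)) (h2.trans (congrArg (· ≫ _) h3))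
  refine (skyHom_π (f x) _ U ⟨⟨h⟩⟩).symm.trans (h5.trans ?_)
  have h6 := skyHom_π x (𝟙 ((pt x).sheafFiber.obj O_X)) ((Opens.map f).obj U) ⟨⟨h⟩⟩
  rw [Adjunction.homEquiv_id] at h6
  replace h6 := h6.trans (Category.comp_id _)
  rw [← h6]
  have h7 : (β.hom.app ((pt x).sheafFiber.obj O_X)).hom.app (op U) ≫
      Pi.π (fun _ : (pt (f x)).fiber.obj U => (pt x).sheafFiber.obj O_X) ⟨⟨h⟩⟩ =
      Pi.π (fun _ : (pt x).fiber.obj ((Opens.map f).obj U) => (pt x).sheafFiber.obj O_X) ⟨⟨h⟩⟩ := by
    simp [β, EtStalk.skyscraperPushIso, ptPullIso, fullyFaithfulSheafToPresheaf]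
    exact Category.id_comp _
  change (c.hom.app (op U) ≫ (((pt x).skyscraperSheafAdjunction (A := CommRingCat.{u})).unit.app O_X).hom.app
    (op ((Opens.map f).obj U)) ≫ (β.hom.app ((pt x).sheafFiber.obj O_X)).hom.app (op U)) ≫ _ = _
  simp only [Category.assoc]
  exact congrArg (c.hom.app (op U) ≫ ·) (congrArg _ h7)

/-- the map of stalks through the fibre of the inverse image -/
lemma smap_eq : (fibIso O_Y.obj (f x)).inv ≫ (invFib f c x).hom ≫ (pt x).sheafFiber.map (rmor f c).invSharp ≫
    (fibIso O_X.obj x).hom = smap f c x := by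
  refine TopCat.Presheaf.stalk_hom_ext _ fun U h => ?_
  erw [reassoc_of% germ_fibInv O_Y.obj (f x) U h, reassoc_of% toFiber_invFib_invSharp f c x U h, toFiber_fibHom]
  ext r
  exact (germ_smap f c x U h r).symm

end PullFiber

section Module

variable {X : TopCat.{u}} {O : TopCat.Sheaf CommRingCat.{u} X} (F : ModSite.Mod O) (x : X)

/-- the fibre of a module as its stalk -/
noncomputable def fibAdd : ModSite.stalkAb (pt x) F ≃+ (st O x).obj F :=
  (fibIso F.val.presheaf x).addCommGroupIsoToAddEquiv

lemma fibAdd_germ (U : Opens X) (h : x ∈ U) (s : ModSite.sect F U) :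
    fibAdd F x (ModSite.germ (pt x) F U ⟨⟨h⟩⟩ s) = pgerm F.val x U h s :=
  ConcreteCategory.congr_hom (toFiber_fibHom F.val.presheaf x U ⟨⟨h⟩⟩) s

lemma fibAdd_smul (r : ModSite.stalkRing (pt x) O) (m : ModSite.stalkAb (pt x) F) :
    fibAdd F x (r • m) = (fibIso O.obj x).hom.hom r • fibAdd F x m := by
  obtain ⟨U, ⟨⟨hU⟩⟩, r, rfl⟩ := (pt x).toPresheafFiber_jointly_surjective r
  obtain ⟨V, ⟨⟨hV⟩⟩, m, rfl⟩ := (pt x).toPresheafFiber_jointly_surjective m
  have hx : x ∈ U ⊓ V := ⟨hU, hV⟩
  have e1 := ConcreteCategory.congr_hom ((pt x).toPresheafFiber_w (homOfLE (show U ⊓ V ≤ U from inf_le_left)) ⟨⟨hx⟩⟩ O.obj) r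
  have e2 := ConcreteCategory.congr_hom ((pt x).toPresheafFiber_w (homOfLE (show U ⊓ V ≤ V from inf_le_right)) ⟨⟨hx⟩⟩ F.val.presheaf) m
  erw [← e1, ← e2]
  erw [← ModSite.germ_smul, fibAdd_germ, fibAdd_germ, pgerm_smul F.val x hx]
  exact congrArg (· • _) (ConcreteCategory.congr_hom (toFiber_fibHom O.obj x (U ⊓ V) ⟨⟨hx⟩⟩) _).symm

end Module

/-- flatness transported along a ring isomorphism and a semilinear bijection -/
lemma flat_of_semilinear {A A' M M' : Type u} [CommRing A] [CommRing A'] [AddCommGroup M] [AddCommGroup M']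
    [Module A M] [Module A' M'] (e : A ≃+* A') (h : M' ≃+ M) (he : ∀ (a : A) (m : M'), h (e a • m) = a • h m)
    [Module.Flat A' M'] : Module.Flat A M := by
  letI : Algebra A A' := e.toRingHom.toAlgebra
  letI : Module A M' := Module.compHom M' e.toRingHom
  haveI : IsScalarTower A A' M' := IsScalarTower.of_algebraMap_smul fun _ _ => rfl
  haveI : Module.Flat A A' := Module.Flat.of_linearEquiv
    (e.symm.toAddEquiv.toLinearEquiv fun a b => by
      change e.symm (e a * b) = a * e.symm b
      rw [map_mul, e.symm_apply_apply])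
  haveI : Module.Flat A M' := Module.Flat.trans A A' M'
  exact Module.Flat.of_linearEquiv (h.symm.toLinearEquiv fun a m => h.injective (by
    rw [show a • h.symm m = e a • h.symm m from rfl, he]
    simp))

end Groth.Agent.RSStalk
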