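import Groth.Agent.RSStalk.Basic
import Mathlib.Topology.Sheaves.SheafCondition.UniqueGluing
import Mathlib.Algebra.Category.ModuleCat.Presheaf.EpiMono

/-!
Skyscraper modules on a ringed space.
(The argument for schemes in `Groth.Agent.KFlat.Skyscraper`, restated for ringed spaces.)
-/

set_option backward.isDefEq.respectTransparency false
set_option backward.isDefEq.respectTransparency.types false
set_option linter.style.haveILetI false
set_option autoImplicit false
universe u

namespace Groth.Agent.RSStalk

open CategoryTheory Limits Opposite TopologicalSpace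
open Groth.Agent.KFlat (PStalk pgerm pgerm_res pgerm_smul exists_pgerm mem_inf' pDesc pDesc_germ)

variable {X : TopCat.{u}} {O : TopCat.Sheaf CommRingCat.{u} X} (x : X)

section

variable (M : ModuleCat.{u} ((rg O).stalk x))

/-- sections of the skyscraper -/
abbrev SkySec (U : Opens X) : Type u := PLift (x ∈ U) → M

noncomputable instance skyModule (U : Opens X) : Module ((rg O).obj (op U)) (SkySec x M U) where
  smul r g := fun h => (rg O).germ U x h.down r • g h
  one_smul g := funext fun h => by
    change (rg O).germ U x h.down 1 • g h = g h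
    rw [map_one, one_smul]
  mul_smul r s g := funext fun h => by
    change (rg O).germ U x h.down (r * s) • g h = (rg O).germ U x h.down r • (rg O).germ U x h.down s • g h
    rw [map_mul, mul_smul]
  smul_zero r := funext fun h => smul_zero _
  smul_add r a b := funext fun h => smul_add _ _ _
  add_smul r s g := funext fun h => by
    change (rg O).germ U x h.down (r + s) • g h = (rg O).germ U x h.down r • g h + (rg O).germ U x h.down s • g h
    rw [map_add, add_smul]
  zero_smul g := funext fun h => by
    change (rg O).germ U x h.down 0 • g h = 0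
    rw [map_zero, zero_smul]

/-- the abelian presheaf -/
noncomputable def skyAb : TopCat.Presheaf AddCommGrpCat.{u} X where
  obj U := AddCommGrpCat.of (SkySec x M U.unop)
  map {U V} f := AddCommGrpCat.ofHom
    { toFun := fun g h => g ⟨f.unop.le h.down⟩, map_zero' := rfl, map_add' := fun _ _ => rfl }

noncomputable instance (U : (Opens X)ᵒᵖ) : Module ((ModSite.ringSh O).obj.obj U) ((skyAb x M).obj U) :=
  inferInstanceAs (Module ((rg O).obj (op U.unop)) (SkySec x M U.unop))

lemma skyAb_map_smul ⦃U V : (Opens X)ᵒᵖ⦄ (f : U ⟶ V) (r : (ModSite.ringSh O).obj.obj U) (m : (skyAb x M).obj U) :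
    (skyAb x M).map f (r • m) = (ModSite.ringSh O).obj.map f r • (skyAb x M).map f m :=
  funext fun h => congrArg (· • m ⟨f.unop.le h.down⟩)
    (TopCat.Presheaf.germ_res_apply (rg O) f.unop x h.down r).symm

lemma skyAb_isSheaf : TopCat.Presheaf.IsSheaf (skyAb x M) := by
  rw [TopCat.Presheaf.isSheaf_iff_isSheafUniqueGluing]
  intro ι U sf hsf
  have mem : ∀ h : PLift (x ∈ iSup U), ∃ i, x ∈ U i := fun h => Opens.mem_iSup.1 h.down
  refine ⟨fun h => sf (mem h).choose ⟨(mem h).choose_spec⟩, fun i => funext fun h => ?_, fun g hg => funext fun h => ?_⟩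
  · have hs : x ∈ iSup U := Opens.mem_iSup.2 ⟨i, h.down⟩
    exact congrFun (hsf (mem ⟨hs⟩).choose i) ⟨⟨(mem ⟨hs⟩).choose_spec, h.down⟩⟩
  · exact congrFun (hg (mem h).choose) ⟨(mem h).choose_spec⟩

end

/-- the skyscraper module -/
noncomputable def sky : ModuleCat.{u} ((rg O).stalk x) ⥤ ModSite.Mod O where
  obj M :=
    { val := PresheafOfModules.ofPresheaf (R := (ModSite.ringSh O).obj) (skyAb x M) (skyAb_map_smul x M)
      isSheaf := skyAb_isSheaf x M }
  map {M N} f := ⟨PresheafOfModules.homMk
    { app := fun U => AddCommGrpCat.ofHom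
        { toFun := fun g h => f.hom (g h), map_zero' := funext fun _ => map_zero f.hom
          map_add' := fun a b => funext fun h => map_add f.hom (a h) (b h) }
      naturality := fun U V i => rfl }
    fun U r m => funext fun h => f.hom.map_smul _ (m h)⟩
  map_id M := rfl
  map_comp f g := rfl

/-- evaluation of germs of the skyscraper -/
noncomputable def skyEval (M : ModuleCat.{u} ((rg O).stalk x)) :
    PStalk ((toP O).obj ((sky x).obj M)) x →+ M :=
  pDesc _ x (fun U hU => { toFun := fun g => g ⟨hU⟩, map_zero' := rfl, map_add' := fun _ _ => rfl })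
    fun _ _ _ _ _ _ => rfl

lemma skyEval_germ (M : ModuleCat.{u} ((rg O).stalk x)) (U : Opens X) (hU : x ∈ U) (g : SkySec x M U) :
    skyEval x M (pgerm ((toP O).obj ((sky x).obj M)) x U hU g) = g ⟨hU⟩ :=
  pDesc_germ ((toP O).obj ((sky x).obj M)) x _ _ U hU g

/-- evaluation of germs of the skyscraper, linear -/
noncomputable def skyEvalₗ (M : ModuleCat.{u} ((rg O).stalk x)) :
    (st O x).obj ((sky x).obj M) →ₗ[(rg O).stalk x] M where
  toFun := skyEval x M
  map_add' := map_add (skyEval x M)
  map_smul' r m := by
    obtain ⟨U, hU, r, rfl⟩ := TopCat.Presheaf.exists_germ_eq (rg O) (x := x) r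
    obtain ⟨V, hV, m, rfl⟩ := exists_pgerm ((toP O).obj ((sky x).obj M)) x m
    have hx : x ∈ U ⊓ V := mem_inf' x hU hV
    rw [← pgerm_res _ x (show U ⊓ V ≤ V from inf_le_right) hx,
      ← TopCat.Presheaf.germ_res_apply (rg O) (homOfLE (show U ⊓ V ≤ U from inf_le_left)) x hx r]
    erw [← pgerm_smul _ x hx]
    exact (skyEval_germ x M _ hx _).trans (congrArg (fun z => (rg O).germ (U ⊓ V) x hx
      ((rg O).map (homOfLE (show U ⊓ V ≤ U from inf_le_left)).op r) • z) (skyEval_germ x M _ hx _).symm)

lemma skyEval_bijective (M : ModuleCat.{u} ((rg O).stalk x)) : Function.Bijective (skyEvalₗ x M) := by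
  refine ⟨(injective_iff_map_eq_zero _).2 fun z hz => ?_,
    fun m => ⟨pgerm _ x (⊤ : Opens X) trivial (fun _ => m), skyEval_germ x M ⊤ trivial _⟩⟩
  obtain ⟨U, hU, g, rfl⟩ := exists_pgerm ((toP O).obj ((sky x).obj M)) x z
  have h0 : g = (0 : SkySec x M U) :=
    funext fun h => ((congrArg g (Subsingleton.elim h ⟨hU⟩)).trans (skyEval_germ x M U hU g).symm).trans hz
  rw [h0]
  exact map_zero (pgerm ((toP O).obj ((sky x).obj M)) x U hU)

/-- the stalk of a skyscraper -/
noncomputable def skyStalkIso (M : ModuleCat.{u} ((rg O).stalk x)) :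
    (st O x).obj ((sky x).obj M) ≅ M :=
  (LinearEquiv.ofBijective (skyEvalₗ x M) (skyEval_bijective x M)).toModuleIso

lemma skyStalkIso_natural {M N : ModuleCat.{u} ((rg O).stalk x)} (f : M ⟶ N) :
    (st O x).map ((sky x).map f) ≫ (skyStalkIso x N).hom = (skyStalkIso x M).hom ≫ f := by
  ext z
  obtain ⟨U, hU, g, rfl⟩ := exists_pgerm ((toP O).obj ((sky x).obj M)) x z
  refine (congrArg (skyEvalₗ x N) (pstMap_germ ((toP O).map ((sky x).map f)) x hU g)).trans ?_
  exact (skyEval_germ x N U hU _).trans (congrArg f.hom (skyEval_germ x M U hU g)).symm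

/-- the skyscraper has the prescribed stalk -/
noncomputable def skyStalkNatIso : sky x ⋙ st O x ≅ 𝟭 _ :=
  NatIso.ofComponents (skyStalkIso x) fun f => skyStalkIso_natural x f

/-- the map to a skyscraper from a map on the stalk -/
noncomputable def toSky {F : ModSite.Mod O} {M : ModuleCat.{u} ((rg O).stalk x)}
    (φ : (st O x).obj F ⟶ M) : F ⟶ (sky x).obj M :=
  ⟨PresheafOfModules.homMk
    { app := fun U => AddCommGrpCat.ofHom
        { toFun := fun s h => φ.hom (pgerm ((toP O).obj F) x U.unop h.down s)
          map_zero' := funext fun h =>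
            (congrArg φ.hom (map_zero (pgerm ((toP O).obj F) x U.unop h.down))).trans (map_zero φ.hom)
          map_add' := fun a b => funext fun h =>
            (congrArg φ.hom (map_add (pgerm ((toP O).obj F) x U.unop h.down) a b)).trans (map_add φ.hom _ _) }
      naturality := fun U V i => by
        ext s
        exact funext fun h => congrArg φ.hom (pgerm_res ((toP O).obj F) x i.unop.le h.down s) }
    fun U r s => funext fun h =>
      (congrArg φ.hom (pgerm_smul ((toP O).obj F) x h.down r s)).trans (φ.hom.map_smul _ _)⟩

/-- stalk ⊣ skyscraper -/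
noncomputable def skyAdjunction : st O x ⊣ sky x :=
  Adjunction.mkOfHomEquiv
    { homEquiv := fun F M =>
        { toFun := toSky x
          invFun := fun g => (st O x).map g ≫ (skyStalkIso x M).hom
          left_inv := fun φ => by
            ext z
            obtain ⟨U, hU, s, rfl⟩ := exists_pgerm ((toP O).obj F) x z
            refine (congrArg (skyEvalₗ x M) (pstMap_germ ((toP O).map (toSky x φ)) x hU s)).trans ?_
            exact skyEval_germ x M U hU _
          right_inv := fun g => by
            apply SheafOfModules.hom_ext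
            apply PresheafOfModules.hom_ext
            intro U
            ext s
            refine funext fun h => ?_
            refine (congrArg (skyEvalₗ x M) (pstMap_germ ((toP O).map g) x h.down s)).trans ?_
            exact skyEval_germ x M U.unop h.down _ }
      homEquiv_naturality_left_symm := fun f g => by
        change (st O x).map (f ≫ g) ≫ _ = _
        rw [Functor.map_comp, Category.assoc]
        rfl
      homEquiv_naturality_right := fun f g => rfl }

instance sky_additive : (sky (O := O) x).Additive where

instance sky_preservesFiniteLimits : PreservesFiniteLimits (sky (O := O) x) :=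
  have : PreservesLimitsOfSize.{0, 0} (sky (O := O) x) := (skyAdjunction x).rightAdjoint_preservesLimits
  inferInstance

lemma sky_map_epi {M N : ModuleCat.{u} ((rg O).stalk x)} (f : M ⟶ N) [Epi f] : Epi ((sky x).map f) := by
  have h : Epi ((SheafOfModules.forget (ModSite.ringSh O)).map ((sky x).map f)) := by
    refine PresheafOfModules.epi_of_surjective fun U g => ?_
    choose m hm using fun h => (ModuleCat.epi_iff_surjective f).1 inferInstance (g h)
    exact ⟨m, funext hm⟩
  exact (SheafOfModules.forget (ModSite.ringSh O)).epi_of_epi_map h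

instance sky_preservesEpi : (sky (O := O) x).PreservesEpimorphisms := ⟨fun f _ => sky_map_epi x f⟩

end Groth.Agent.RSStalk
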