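import Groth.Agent.RSStalk.Fib

/-!
Exactness of `G ↦ f^* G ⊗ F` for a module flat over the base.
-/

set_option backward.isDefEq.respectTransparency false
set_option backward.isDefEq.respectTransparency.types false
set_option linter.style.haveILetI false
set_option autoImplicit false
universe u

namespace Groth.Agent.RSStalk

open CategoryTheory Limits Opposite TopologicalSpace MonoidalCategory

/-- tensoring a base change with a module flat over the base keeps monomorphisms -/
lemma mono_extendScalars_tensor {A B : CommRingCat.{u}} (φ : A ⟶ B) (M : ModuleCat.{u} B)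
    (hM : @Module.Flat A M _ _ (Module.compHom M φ.hom)) {N N' : ModuleCat.{u} A} (g : N ⟶ N') [Mono g] :
    Mono ((ModuleCat.extendScalars.{u, u, u} φ.hom).map g ⊗ₘ 𝟙 M) := by
  letI := φ.hom.toAlgebra
  letI : Module A M := Module.compHom M φ.hom
  haveI : IsScalarTower A B M := IsScalarTower.of_algebraMap_smul fun _ _ => rfl
  haveI : Module.Flat A M := hM
  rw [ModuleCat.mono_iff_injective]
  change Function.Injective (LinearMap.rTensor M (g.hom.baseChange B))
  rw [← LinearMap.lTensor_inj_iff_rTensor_inj]
  have h := TensorProduct.AlgebraTensorModule.lTensor_comp_cancelBaseChange (R := A) (A := B) (B := B) (M := M) g.hom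
  have hi : Function.Injective ((TensorProduct.AlgebraTensorModule.lTensor B M g.hom).comp
      (TensorProduct.AlgebraTensorModule.cancelBaseChange A B B M N).toLinearMap) :=
    (Module.Flat.lTensor_preserves_injective_linearMap g.hom ((ModuleCat.mono_iff_injective g).1 inferInstance)).comp
      (LinearEquiv.injective _)
  rw [h] at hi
  exact fun a b hab => hi (congrArg (TensorProduct.AlgebraTensorModule.cancelBaseChange A B B M N') hab)

variable {X Y : TopCat.{u}} {O_X : TopCat.Sheaf CommRingCat.{u} X} {O_Y : TopCat.Sheaf CommRingCat.{u} Y} (f : X ⟶ Y)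
  (c : O_Y ⟶ ((Opens.map f).sheafPushforwardContinuous CommRingCat.{u} (Opens.grothendieckTopology Y)
    (Opens.grothendieckTopology X)).obj O_X) (F : ModSite.Mod O_X)

/-- flatness over the stalk of the inverse image ring gives flatness over the stalk downstairs -/
lemma flat_of_invRing (x : X)
    (hF : @Module.Flat (ModSite.stalkRing (pt x) (rmor f c).invRing) (ModSite.stalkAb (pt x) F) _ _
      (Module.compHom (ModSite.stalkAb (pt x) F) ((pt x).sheafFiber.map (rmor f c).invSharp).hom)) :
    @Module.Flat ((rg O_Y).stalk (f x)) ((st O_X x).obj F) _ _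
      (Module.compHom ((st O_X x).obj F) (smap f c x).hom) := by
  letI : Module ((rg O_Y).stalk (f x)) ((st O_X x).obj F) := Module.compHom ((st O_X x).obj F) (smap f c x).hom
  letI : Module (ModSite.stalkRing (pt x) (rmor f c).invRing) (ModSite.stalkAb (pt x) F) :=
    Module.compHom (ModSite.stalkAb (pt x) F) ((pt x).sheafFiber.map (rmor f c).invSharp).hom
  haveI := hF
  refine flat_of_semilinear (A' := ModSite.stalkRing (pt x) (rmor f c).invRing)
    ((fibIso O_Y.obj (f x)).symm ≪≫ invFib f c x).commRingCatIsoToRingEquiv (fibAdd F x) fun a m => ?_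
  refine (fibAdd_smul F x _ m).trans (congrArg (· • fibAdd F x m) ?_)
  exact ConcreteCategory.congr_hom (smap_eq f c x) a

/-- `G ↦ f^* G ⊗ F` keeps monomorphisms -/
lemma mono_pull_tensor
    (hF : ∀ x : X, @Module.Flat ((rg O_Y).stalk (f x)) ((st O_X x).obj F) _ _
      (Module.compHom ((st O_X x).obj F) (smap f c x).hom))
    {G G' : ModSite.Mod O_Y} (φ : G ⟶ G') [Mono φ] :
    Mono (((rmor f c).pull ⋙ (ModSite.tensorBi O_X).flip.obj F).map φ) := by
  refine mono_of_stalks _ fun x => ?_
  haveI : Mono ((st O_Y (f x)).map φ) := inferInstance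
  haveI h1 := mono_extendScalars_tensor (smap f c x) ((st O_X x).obj F) (hF x) ((st O_Y (f x)).map φ)
  have h2 : Mono (((st O_X x).map ((rmor f c).pull.map φ)) ⊗ₘ 𝟙 ((st O_X x).obj F)) := by
    have e : (st O_X x).map ((rmor f c).pull.map φ) = (pullStalkIso f c x).hom.app G ≫
        (ModuleCat.extendScalars.{u, u, u} (smap f c x).hom).map ((st O_Y (f x)).map φ) ≫
          (pullStalkIso f c x).inv.app G' := (NatIso.naturality_2 (pullStalkIso f c x) φ).symm
    rw [e]
    simp only [MonoidalCategory.tensorHom_id, MonoidalCategory.comp_whiskerRight] at h1 ⊢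
    haveI := h1
    infer_instance
  have h3 := stTensorIso_natural ((rmor f c).pull.map φ) (𝟙 F) x
  rw [CategoryTheory.Functor.map_id, CategoryTheory.Functor.map_id, Category.comp_id] at h3
  have h4 : (st O_X x).map (((ModSite.tensorBi O_X).map ((rmor f c).pull.map φ)).app F) =
      (stTensorIso ((rmor f c).pull.obj G) F x).inv ≫ ((st O_X x).map ((rmor f c).pull.map φ) ⊗ₘ 𝟙 _) ≫
        (stTensorIso ((rmor f c).pull.obj G') F x).hom := by
    rw [h3, Iso.inv_hom_id_assoc]
  change Mono ((st O_X x).map (((ModSite.tensorBi O_X).map ((rmor f c).pull.map φ)).app F))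
  rw [h4]
  haveI := h2
  infer_instance

end Groth.Agent.RSStalk
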